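import Mathlib
import Groth.Prelude.Def_EGA4b

/-!
Basic permanence properties of normal rings.
-/

namespace Groth.Agent.CAlgNormal

universe u

open Polynomial IsLocalRing

variable {R : Type u} [CommRing R]

theorem normal_transfer {S L : Type u} [CommRing S] [IsDomain S] [IsIntegrallyClosed S] [CommRing L] [Algebra S L]
    (M : Submonoid S) (hM : (0 : S) ∉ M) [IsLocalization M L] : IsDomain L ∧ IsIntegrallyClosed L := by
  have hle : M ≤ nonZeroDivisors S := fun x hx => mem_nonZeroDivisors_of_ne_zero fun h => hM (h ▸ hx)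
  haveI : IsDomain L := IsLocalization.isDomain_of_le_nonZeroDivisors L hle
  exact ⟨inferInstance, isIntegrallyClosed_of_isLocalization L M hle⟩

/-- Localization at a smaller prime of a normal local ring. -/
theorem normal_of_le {p q : Ideal R} [p.IsPrime] [q.IsPrime] (h : q ≤ p) [IsDomain (Localization.AtPrime p)]
    [IsIntegrallyClosed (Localization.AtPrime p)] :
    IsDomain (Localization.AtPrime q) ∧ IsIntegrallyClosed (Localization.AtPrime q) := by
  have hpq : p.primeCompl ≤ q.primeCompl := fun x hx hxq => hx (h hxq)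
  letI := IsLocalization.localizationAlgebraOfSubmonoidLe (Localization.AtPrime p) (Localization.AtPrime q) _ _ hpq
  haveI := IsLocalization.localization_isScalarTower_of_submonoid_le (Localization.AtPrime p)
    (Localization.AtPrime q) _ _ hpq
  haveI := IsLocalization.isLocalization_of_submonoid_le (Localization.AtPrime p) (Localization.AtPrime q) _ _ hpq
  refine normal_transfer (q.primeCompl.map (algebraMap R (Localization.AtPrime p))) ?_
  rintro ⟨x, hx, hx0⟩
  obtain ⟨s, hs⟩ := (IsLocalization.map_eq_zero_iff p.primeCompl _ _).1 hx0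
  exact (q.primeCompl.mul_mem (hpq s.2) hx) (by rw [hs]; exact zero_mem _)

theorem isNormalRing_polynomial (hR : EGA4.IsNormalRing R) : EGA4.IsNormalRing (Polynomial R) := by
  intro Q _
  let p := Q.comap (C : R →+* R[X])
  obtain ⟨hd, hc⟩ := hR p
  haveI := hd
  haveI := hc
  letI : Algebra R[X] (Localization.AtPrime p)[X] := Polynomial.algebra R (Localization.AtPrime p)
  haveI : IsLocalization (p.primeCompl.map (C : R →+* R[X])) (Localization.AtPrime p)[X] :=
    Polynomial.isLocalization p.primeCompl (Localization.AtPrime p)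
  have hdisj : Disjoint ((p.primeCompl.map (C : R →+* R[X])) : Set R[X]) Q := by
    rw [Set.disjoint_left]
    rintro _ ⟨x, hx, rfl⟩ hxQ
    exact hx hxQ
  let Q' := Q.map (algebraMap R[X] (Localization.AtPrime p)[X])
  haveI hQ' : Q'.IsPrime := IsLocalization.isPrime_of_isPrime_disjoint _ _ Q inferInstance hdisj
  let L := Localization.AtPrime Q'
  obtain ⟨hLd, hLc⟩ := normal_transfer (S := (Localization.AtPrime p)[X]) (L := L) Q'.primeCompl
    (fun h => h (zero_mem _))
  haveI := hLd
  haveI := hLc
  haveI : IsLocalization.AtPrime L (Q'.comap (algebraMap R[X] (Localization.AtPrime p)[X])) :=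
    IsLocalization.isLocalization_isLocalization_atPrime_isLocalization (p.primeCompl.map (C : R →+* R[X])) L Q'
  have hcomap : Q'.comap (algebraMap R[X] (Localization.AtPrime p)[X]) = Q :=
    IsLocalization.under_map_of_isPrime_disjoint _ _ inferInstance hdisj
  haveI : IsLocalization.AtPrime L Q := by
    have hc : (Q'.comap (algebraMap R[X] (Localization.AtPrime p)[X])).primeCompl = Q.primeCompl :=
      Submonoid.ext fun x => by
        show x ∉ Q'.comap _ ↔ x ∉ Q
        rw [hcomap]
    show IsLocalization Q.primeCompl L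
    rw [← hc]; infer_instance
  let e := IsLocalization.algEquiv Q.primeCompl (Localization.AtPrime Q) L
  haveI : IsDomain (Localization.AtPrime Q) := e.toRingEquiv.toMulEquiv.isDomain
  exact ⟨inferInstance, @IsIntegrallyClosed.of_equiv L _ _ _ e.symm.toRingEquiv inferInstance⟩

theorem isNormalRing_pi {ι : Type u} [Finite ι] (A : ι → Type u) [∀ i, CommRing (A i)]
    (hA : ∀ i, EGA4.IsNormalRing (A i)) : EGA4.IsNormalRing (∀ i, A i) := by
  classical
  haveI := Fintype.ofFinite ι
  intro p hp
  obtain ⟨i, hi⟩ : ∃ i, Pi.single (M := A) i 1 ∉ p := by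
    by_contra! h
    refine hp.ne_top ((Ideal.eq_top_iff_one _).2 ?_)
    rw [← Finset.univ_sum_single (1 : ∀ i, A i)]
    exact Ideal.sum_mem _ fun i _ => h i
  let π := Pi.evalRingHom A i
  have hπs : Function.Surjective π := fun a => ⟨Pi.single i a, by simp [π]⟩
  have hker : ∀ x, π x = 0 → x * Pi.single (M := A) i 1 = 0 := fun x hx => funext fun j => by
    rcases eq_or_ne j i with rfl | h
    · simp [show x j = 0 from hx]
    · simp [Pi.single_eq_of_ne h]
  have hle : RingHom.ker π ≤ p := fun x hx =>
    (hp.mem_or_mem (by rw [hker x hx]; exact zero_mem _)).resolve_right hi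
  let q := p.map π
  haveI : q.IsPrime := Ideal.map_isPrime_of_surjective hπs hle
  have hq : ∀ x, π x ∈ q ↔ x ∈ p := fun x => by
    rw [← Ideal.mem_comap, Ideal.comap_map_of_surjective' _ hπs, sup_eq_left.2 hle]
  obtain ⟨hd, hc⟩ := hA i q
  let L := Localization.AtPrime q
  letI : Algebra (∀ i, A i) L := ((algebraMap (A i) L).comp π).toAlgebra
  haveI : IsLocalization p.primeCompl L :=
    { map_units := fun y => IsLocalization.map_units L (⟨π y, fun h => y.2 ((hq _).1 h)⟩ : q.primeCompl)
      surj := fun z => by
        obtain ⟨⟨a, s⟩, h⟩ := IsLocalization.surj q.primeCompl z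
        obtain ⟨a', ha'⟩ := hπs a
        obtain ⟨s', hs'⟩ := hπs s
        exact ⟨⟨a', ⟨s', fun h => s.2 (hs' ▸ (hq _).2 h)⟩⟩, by
          show z * algebraMap (A i) L (π s') = algebraMap (A i) L (π a')
          rw [ha', hs']; exact h⟩
      exists_of_eq := fun {x y} h => by
        obtain ⟨c, hc⟩ := (IsLocalization.eq_iff_exists q.primeCompl L).1 h
        obtain ⟨c', hc'⟩ := hπs c
        refine ⟨⟨c' * Pi.single i 1, fun h => ?_⟩, funext fun j => ?_⟩
        · exact (hp.mem_or_mem h).elim (fun h => c.2 (hc' ▸ (hq _).2 h)) hi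
        · rcases eq_or_ne j i with rfl | h
          · simp only [Pi.mul_apply, Pi.single_eq_same, mul_one]
            rw [show c' j = (c : A j) from hc']
            exact hc
          · simp [Pi.single_eq_of_ne h] }
  let e := IsLocalization.algEquiv p.primeCompl (Localization.AtPrime p) L
  haveI := hd
  haveI := hc
  haveI : IsDomain (Localization.AtPrime p) := e.toRingEquiv.toMulEquiv.isDomain
  exact ⟨inferInstance, @IsIntegrallyClosed.of_equiv L _ _ _ e.symm.toRingEquiv inferInstance⟩

theorem isIntegrallyClosedIn_of_normal (hR : EGA4.IsNormalRing R) :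
    IsIntegrallyClosedIn R (FractionRing R) := by
  refine isIntegrallyClosedIn_iff.2 ⟨IsFractionRing.injective R _, fun {x} hx => ?_⟩
  obtain ⟨a, ⟨b, hb⟩, rfl⟩ := IsLocalization.exists_mk'_eq (nonZeroDivisors R) x
  obtain ⟨P, hP, hPx⟩ := hx
  have hrel : (P.scaleRoots b).eval a = 0 := by
    refine IsFractionRing.injective R (FractionRing R) ?_
    rw [map_zero, ← Polynomial.eval₂_at_apply,
      ← IsLocalization.mk'_spec (FractionRing R) a (⟨b, hb⟩ : nonZeroDivisors R), mul_comm,
      scaleRoots_eval₂_mul, hPx, mul_zero]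
  have hmem : a ∈ Ideal.span {b} := by
    by_contra ha
    let J : Ideal R := (Ideal.span {b}).colon (({a} : Set R))
    have hJ : J ≠ ⊤ := fun h => ha (by
      have : (1 : R) ∈ J := h ▸ Submodule.mem_top
      simpa [J, Submodule.mem_colon_singleton] using this)
    obtain ⟨m, hm, hJm⟩ := Ideal.exists_le_maximal J hJ
    haveI := hm.isPrime
    obtain ⟨hd, hc⟩ := hR m
    haveI := hd
    haveI := hc
    let L := Localization.AtPrime m
    let K := FractionRing L
    have hb0 : algebraMap R L b ≠ 0 := fun h => by
      obtain ⟨w, hw⟩ := (IsLocalization.map_eq_zero_iff m.primeCompl _ _).1 h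
      exact w.2 (by rw [(mem_nonZeroDivisors_iff.1 hb).2 w hw]; exact zero_mem _)
    have hb1 : algebraMap L K (algebraMap R L b) ≠ 0 := fun h =>
      hb0 (IsFractionRing.injective L K (h.trans (map_zero _).symm))
    have hint : IsIntegral L (algebraMap L K (algebraMap R L a) / algebraMap L K (algebraMap R L b)) := by
      refine ⟨P.map (algebraMap R L), hP.map _, ?_⟩
      rw [Polynomial.eval₂_map]
      have h1 := congrArg ((algebraMap L K).comp (algebraMap R L)) hrel
      rw [← Polynomial.eval₂_at_apply, map_zero, RingHom.comp_apply,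
        show algebraMap L K (algebraMap R L a) = algebraMap L K (algebraMap R L b) *
          (algebraMap L K (algebraMap R L a) / algebraMap L K (algebraMap R L b)) from (mul_div_cancel₀ _ hb1).symm,
        ← RingHom.comp_apply (algebraMap L K) (algebraMap R L) b, scaleRoots_eval₂_mul] at h1
      exact (mul_eq_zero.1 h1).resolve_left (pow_ne_zero _ hb1)
    obtain ⟨z, hz⟩ := IsIntegrallyClosed.isIntegral_iff.1 hint
    obtain ⟨c, s, rfl⟩ := IsLocalization.exists_mk'_eq m.primeCompl z
    have h2 : algebraMap R L a = algebraMap R L b * IsLocalization.mk' L c s :=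
      IsFractionRing.injective L K (by rw [map_mul, hz, mul_div_cancel₀ _ hb1])
    rw [IsLocalization.mul_mk'_eq_mk'_of_mul, eq_comm, IsLocalization.mk'_eq_iff_eq_mul, ← map_mul,
      IsLocalization.eq_iff_exists m.primeCompl] at h2
    obtain ⟨u, hu⟩ := h2
    have : (u : R) * s ∈ J := by
      rw [Submodule.mem_colon_singleton, smul_eq_mul, Ideal.mem_span_singleton]
      exact ⟨u * c, by linear_combination -hu⟩
    exact (m.primeCompl.mul_mem u.2 s.2) (hJm this)
  obtain ⟨c, hc⟩ := Ideal.mem_span_singleton.1 hmem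
  refine ⟨c, ?_⟩
  rw [eq_comm, IsLocalization.mk'_eq_iff_eq_mul, ← map_mul, hc, mul_comm]

end Groth.Agent.CAlgNormal
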