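import Mathlib
import Groth.Agent.CAlgNormal.Basic

/-!
Openness of the normal locus.
-/

namespace Groth.Agent.CAlgNormal

universe u

theorem isClosed_range_imp_surjective {R : Type u} [CommRing R] (S : Submonoid R) (A : Type u) [CommRing A]
    [Algebra R A] [IsLocalization S A]
    (hcl : IsClosed (Set.range (PrimeSpectrum.comap (algebraMap R A)))) :
    Function.Surjective (algebraMap R A) := by
  obtain ⟨J, hJ⟩ := (PrimeSpectrum.isClosed_iff_zeroLocus_ideal _).1 hcl
  intro z
  obtain ⟨a, s, rfl⟩ := IsLocalization.exists_mk'_eq S z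
  -- `s` together with the kernel generates the unit ideal
  by_cases htop : Ideal.span {(s : R)} ⊔ RingHom.ker (algebraMap R A) = ⊤
  · obtain ⟨x, hx, k, hk, hxk⟩ := Submodule.mem_sup.1 (htop ▸ Submodule.mem_top :
      (1 : R) ∈ Ideal.span {(s : R)} ⊔ RingHom.ker (algebraMap R A))
    obtain ⟨c, rfl⟩ := Ideal.mem_span_singleton.1 hx
    refine ⟨a * c, ?_⟩
    rw [eq_comm, IsLocalization.mk'_eq_iff_eq_mul, ← map_mul, eq_comm, ← sub_eq_zero, ← map_sub,
      show a * c * (s : R) - a = -(a * k) by linear_combination a * hxk, map_neg, map_mul,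
      RingHom.mem_ker.1 hk, mul_zero, neg_zero]
  · exfalso
    obtain ⟨m, hm, hle⟩ := Ideal.exists_le_maximal _ htop
    let mp : PrimeSpectrum R := ⟨m, hm.isPrime⟩
    have hJk : PrimeSpectrum.zeroLocus (J : Set R) = Set.range (PrimeSpectrum.comap (algebraMap R A)) := hJ.symm
    have hJker : ∀ x ∈ J, ∃ n : ℕ, ∃ w : S, (w : R) * x ^ n = 0 := by
      intro x hx
      have hnil : IsNilpotent (algebraMap R A x) := by
        rw [← mem_nilradical, nilradical_eq_sInf, Submodule.mem_sInf]
        intro (P : Ideal A) (hP : Ideal.IsPrime P)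
        have : PrimeSpectrum.comap (algebraMap R A) ⟨P, hP⟩ ∈ PrimeSpectrum.zeroLocus (J : Set R) :=
          hJk ▸ Set.mem_range_self _
        exact this hx
      obtain ⟨n, hn⟩ := hnil
      rw [← map_pow] at hn
      obtain ⟨w, hw⟩ := (IsLocalization.map_eq_zero_iff S A _).1 hn
      exact ⟨n, w, hw⟩
    have hmJ : mp ∈ PrimeSpectrum.zeroLocus (J : Set R) := by
      intro x hx
      obtain ⟨n, w, hw⟩ := hJker x hx
      by_contra hxm
      have hwm : (w : R) ∈ m := (hm.isPrime.mem_or_mem (show (w : R) * x ^ n ∈ m by rw [hw]; exact zero_mem _)).resolve_right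
        fun h => hxm (hm.isPrime.mem_of_pow_mem n h)
      have hker : x ^ n ∈ RingHom.ker (algebraMap R A) :=
        RingHom.mem_ker.2 ((IsLocalization.map_eq_zero_iff S A _).2 ⟨w, hw⟩)
      exact hxm (hm.isPrime.mem_of_pow_mem n (hle (Ideal.mem_sup_right hker)))
    rw [hJk] at hmJ
    obtain ⟨P, hP⟩ := hmJ
    have hsP : algebraMap R A (s : R) ∈ P.asIdeal := by
      have : (s : R) ∈ (PrimeSpectrum.comap (algebraMap R A) P).asIdeal := by
        rw [hP]; exact hle (Ideal.mem_sup_left (Ideal.subset_span rfl))
      exact this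
    exact P.2.ne_top (Ideal.eq_top_of_isUnit_mem _ hsP (IsLocalization.map_units A s))

theorem mem_associatedPrimes_of_minimal {R M : Type u} [CommRing R] [IsNoetherianRing R] [AddCommGroup M]
    [Module R M] (x : M) {q : Ideal R} (hq : q ∈ ((⊥ : Submodule R M).colon {x}).minimalPrimes) :
    q ∈ associatedPrimes R M := by
  have hann : Module.annihilator R (Submodule.span R {x}) = (⊥ : Submodule R M).colon {x} := by
    ext r
    rw [show Module.annihilator R (Submodule.span R {x}) = (Submodule.span R {x}).annihilator from rfl,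
      Submodule.mem_annihilator_span_singleton, Submodule.mem_colon_singleton, Submodule.mem_bot]
  exact associatedPrimes.subset_of_injective (Submodule.subtype_injective _)
    (Module.associatedPrimes.minimalPrimes_annihilator_subset_associatedPrimes R
      (Submodule.span R {x}) (by rw [hann]; exact hq))

theorem isOpen_normal_locus {R : Type u} [CommRing R] [IsDomain R] [IsNoetherianRing R] (f : R)
    (hf : f ≠ 0) (hn : IsIntegrallyClosed (Localization.Away f)) :
    IsOpen {p : PrimeSpectrum R | IsIntegrallyClosed (Localization.AtPrime p.asIdeal)} := by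
  let N : Set (PrimeSpectrum R) := {p | IsIntegrallyClosed (Localization.AtPrime p.asIdeal)}
  have hgen : ∀ p ∈ N, ∀ q : PrimeSpectrum R, q.asIdeal ≤ p.asIdeal → q ∈ N := fun p hp q hqp => by
    haveI : IsIntegrallyClosed (Localization.AtPrime p.asIdeal) := hp
    exact (normal_of_le (p := p.asIdeal) (q := q.asIdeal) hqp).2
  let Bad : Set (PrimeSpectrum R) := {q | q.asIdeal ∈ associatedPrimes R (R ⧸ Ideal.span {f}) ∧ q ∉ N}
  have hfin : Bad.Finite :=
    ((associatedPrimes.finite R (R ⧸ Ideal.span {f})).preimage
      (fun a _ b _ h => PrimeSpectrum.ext h)).subset fun q hq => hq.1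
  suffices Nᶜ = ⋃ q ∈ Bad, PrimeSpectrum.zeroLocus (q.asIdeal : Set R) by
    rw [← isClosed_compl_iff]
    exact this ▸ hfin.isClosed_biUnion fun q _ => PrimeSpectrum.isClosed_zeroLocus _
  ext p
  simp only [Set.mem_compl_iff, Set.mem_iUnion, exists_prop]
  constructor
  · intro hp
    by_contra h
    push Not at h
    refine hp ((isIntegrallyClosed_iff (FractionRing R)).2 fun {x} hx => ?_)
    let Rp := Localization.AtPrime p.asIdeal
    let K := FractionRing R
    -- `f ^ n * x` lies in `Rp` for some `n`
    have hexp : ∃ n : ℕ, ∃ y : Rp, algebraMap Rp K y = algebraMap R K f ^ n * x := by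
      obtain ⟨m, hm⟩ := IsIntegral.exists_multiple_integral_of_isLocalization p.asIdeal.primeCompl _ hx
      let Rf := Localization.Away f
      have hle : Submonoid.powers f ≤ nonZeroDivisors R := by
        rintro _ ⟨k, rfl⟩
        exact mem_nonZeroDivisors_of_ne_zero (pow_ne_zero k hf)
      letI := IsLocalization.localizationAlgebraOfSubmonoidLe Rf K (Submonoid.powers f) (nonZeroDivisors R) hle
      haveI := IsLocalization.localization_isScalarTower_of_submonoid_le Rf K (Submonoid.powers f)
        (nonZeroDivisors R) hle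
      haveI : IsDomain Rf := IsLocalization.isDomain_of_le_nonZeroDivisors Rf hle
      haveI : IsFractionRing Rf K :=
        IsFractionRing.isFractionRing_of_isDomain_of_isLocalization (Submonoid.powers f) Rf K
      haveI := hn
      obtain ⟨y, hy⟩ := IsIntegrallyClosed.isIntegral_iff.1 (hm.tower_top (A := Rf))
      obtain ⟨⟨a, ⟨_, k, rfl⟩⟩, hk⟩ := IsLocalization.surj (Submonoid.powers f) y
      refine ⟨k, IsLocalization.mk' Rp a m, ?_⟩
      have h1 := congrArg (algebraMap Rf K) hk
      rw [map_mul, hy, ← IsScalarTower.algebraMap_apply, ← IsScalarTower.algebraMap_apply, map_pow,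
        Submonoid.smul_def, Algebra.smul_def] at h1
      have h2 : algebraMap Rp K (IsLocalization.mk' Rp a m) * algebraMap R K m = algebraMap R K a := by
        rw [IsScalarTower.algebraMap_apply R Rp K (m : R), ← map_mul, IsLocalization.mk'_spec,
          ← IsScalarTower.algebraMap_apply]
      have hm0 : algebraMap R K (m : R) ≠ 0 := fun h0 => m.2 (by
        rw [show (m : R) = 0 from IsFractionRing.injective R K (h0.trans (map_zero _).symm)]
        exact zero_mem _)
      refine mul_right_cancel₀ hm0 ?_
      rw [h2]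
      linear_combination -h1
    classical
    obtain ⟨y, hy⟩ := Nat.find_spec hexp
    rcases Nat.eq_zero_or_eq_succ_pred (Nat.find hexp) with h0 | h0
    · rw [h0, pow_zero, one_mul] at hy
      exact ⟨y, hy⟩
    set k := (Nat.find hexp).pred
    have hmin : ¬ ∃ y : Rp, algebraMap Rp K y = algebraMap R K f ^ k * x :=
      Nat.find_min hexp (by omega)
    rw [h0, pow_succ', mul_assoc] at hy
    exfalso
    set z := algebraMap R K f ^ k * x with hz
    have hzint : IsIntegral Rp z := by
      refine IsIntegral.mul (IsIntegral.pow ?_ k) hx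
      rw [IsScalarTower.algebraMap_apply R Rp K]
      exact isIntegral_algebraMap
    obtain ⟨a, s, rfl⟩ := IsLocalization.exists_mk'_eq p.asIdeal.primeCompl y
    have hya : algebraMap R K f * z * algebraMap R K s = algebraMap R K a := by
      rw [← hy, IsScalarTower.algebraMap_apply R Rp K (s : R), ← map_mul, IsLocalization.mk'_spec,
        ← IsScalarTower.algebraMap_apply]
    let J : Ideal R := (⊥ : Submodule R (R ⧸ Ideal.span {f})).colon {Ideal.Quotient.mk (Ideal.span {f}) a}
    have hJ : ∀ r, r ∈ J ↔ r * a ∈ Ideal.span {f} := fun r => by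
      rw [Submodule.mem_colon_singleton, Submodule.mem_bot, Algebra.smul_def,
        Ideal.Quotient.algebraMap_eq, ← map_mul, Ideal.Quotient.eq_zero_iff_mem]
    have hsne : ∀ r : R, r ∉ p.asIdeal → algebraMap R K r ≠ 0 := fun r hr h0 => hr (by
      rw [show r = 0 from IsFractionRing.injective R K (h0.trans (map_zero _).symm)]; exact zero_mem _)
    have hJp : J ≤ p.asIdeal := fun r hr => by
      by_contra hrp
      obtain ⟨c, hc⟩ := Ideal.mem_span_singleton.1 ((hJ r).1 hr)
      let u : p.asIdeal.primeCompl := ⟨r * s, p.asIdeal.primeCompl.mul_mem hrp s.2⟩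
      refine hmin ⟨IsLocalization.mk' Rp c u, ?_⟩
      have h2 : algebraMap Rp K (IsLocalization.mk' Rp c u) *
          (algebraMap R K r * algebraMap R K s) = algebraMap R K c := by
        rw [← map_mul, show r * (s : R) = (u : R) from rfl, IsScalarTower.algebraMap_apply R Rp K (u : R),
          ← map_mul, IsLocalization.mk'_spec, ← IsScalarTower.algebraMap_apply]
      refine mul_right_cancel₀ (mul_ne_zero (hsne r hrp) (hsne s s.2)) ?_
      rw [h2]
      have hc' := congrArg (algebraMap R K) hc
      rw [map_mul, map_mul] at hc'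
      refine mul_left_cancel₀ (fun h0 => hf (IsFractionRing.injective R K (h0.trans (map_zero _).symm)) :
        algebraMap R K f ≠ 0) ?_
      linear_combination -hc' - (algebraMap R K r) * hya
    obtain ⟨q, hq, hqp⟩ := Ideal.exists_minimalPrimes_le hJp
    haveI := hq.1.1
    have hqass : q ∈ associatedPrimes R (R ⧸ Ideal.span {f}) :=
      mem_associatedPrimes_of_minimal (Ideal.Quotient.mk (Ideal.span {f}) a) hq
    have hqN : (⟨q, inferInstance⟩ : PrimeSpectrum R) ∈ N := by
      by_contra hqN
      exact h ⟨q, inferInstance⟩ ⟨hqass, hqN⟩ hqp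
    haveI : IsIntegrallyClosed (Localization.AtPrime q) := hqN
    let Rq := Localization.AtPrime q
    have hpq : p.asIdeal.primeCompl ≤ q.primeCompl := fun r hr hrq => hr (hqp hrq)
    letI := IsLocalization.localizationAlgebraOfSubmonoidLe Rp Rq _ _ hpq
    haveI := IsLocalization.localization_isScalarTower_of_submonoid_le Rp Rq _ _ hpq
    haveI : IsScalarTower Rp Rq K := IsScalarTower.of_algebraMap_eq' (by
      refine IsLocalization.ringHom_ext p.asIdeal.primeCompl ?_
      rw [RingHom.comp_assoc, ← IsScalarTower.algebraMap_eq, ← IsScalarTower.algebraMap_eq,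
        ← IsScalarTower.algebraMap_eq])
    obtain ⟨w, hw⟩ := IsIntegrallyClosed.isIntegral_iff.1 (hzint.tower_top (A := Rq))
    obtain ⟨c, t, rfl⟩ := IsLocalization.exists_mk'_eq q.primeCompl w
    have hct : z * algebraMap R K t = algebraMap R K c := by
      rw [← hw, IsScalarTower.algebraMap_apply R Rq K (t : R), ← map_mul, IsLocalization.mk'_spec,
        ← IsScalarTower.algebraMap_apply]
    refine t.2 (hq.1.2 ((hJ t).2 (Ideal.mem_span_singleton.2 ⟨c * s, IsFractionRing.injective R K ?_⟩)))
    rw [map_mul, map_mul, map_mul, ← hya, ← hct]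
    ring
  · rintro ⟨q, ⟨-, hqN⟩, hqp⟩ hpN
    exact hqN (hgen p hpN q hqp)

end Groth.Agent.CAlgNormal
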